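import Cfsg.Agent.LocalThree.GramSplit

/-!
The decompositions of the scalar products of `x`, `al`, `be` without the principal character.
-/

set_option autoImplicit false
set_option maxRecDepth 8000

namespace Cfsg.Lib.Ree

open Cfsg.Lib.GramSplit

/-- The scalar products without the principal character. -/
def gramRest : Mat := [[3,2,2],[2,4,2],[2,2,4]]

/-- The decomposition with a member of degree zero. -/
def sectBad : List Row := [[0,1,-1],[0,1,1],[1,0,0],[1,1,1],[1,1,1]]

/-- The decompositions. -/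
def sectSols : List (List Row) :=
  [[[0,1,0],[0,1,0],[1,0,0],[1,1,0],[1,1,2]],
   [[0,0,1],[0,0,1],[1,0,0],[1,0,1],[1,2,1]],
   [[0,0,1],[0,1,0],[0,1,1],[1,0,1],[1,1,0],[1,1,1]],
   [[1,0,0],[0,1,0],[0,1,0],[0,0,1],[0,0,1],[1,1,1],[1,1,1]],
   sectBad]

/-- The search tree. -/
def sectCert : Cert :=
  (.branch [1, 0, 0] (.branch [1, 0, 0] (.last 0 []) (.branch [1, 0, 1] (.branch [1, 2, 1] (.branch [0, 0, 1] (.branch [0, 0, 1] .done (.last 2 [])) (.last 2 [])) (.last 0 [])) (.branch [1, 1, 0] (.branch [1, 1, 2] (.branch [0, 1, 0] (.branch [0, 1, 0] .done (.last 1 [])) (.last 1 [])) (.last 0 [])) (.branch [1, 1, 1] (.branch [1, 1, 1] (.branch [0, 1, 0] (.branch [0, 1, 0] (.branch [0, 0, 1] (.branch [0, 0, 1] .done (.last 2 [])) (.last 2 [])) (.last 1 [])) (.branch [0, 1, 1] (.branch [0, 1, -1] .done (.last 1 [])) (.branch [0, 1, -1] (.last 1 []) (.last 1 [])))) (.last 0 [])) (.branch [1, 1, 2] (.last 0 []) (.branch [1, 2, 1] (.last 0 []) (.last 0 [])))))))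 (.branch [1, 0, 1] (.branch [1, 0, 1] (.bad [1, -1, 1]) (.branch [1, 1, 0] (.branch [1, 1, 1] (.branch [0, 1, 0] (.branch [0, 1, 1] (.branch [0, 0, 1] .done (.last 2 [])) (.last 1 [])) (.branch [0, 1, 1] (.last 1 []) (.last 1 []))) (.last 0 [])) (.branch [1, 1, 1] (.last 0 []) (.branch [1, 2, 1] (.last 0 []) (.last 0 []))))) (.branch [1, 1, 0] (.branch [1, 1, 0] (.bad [1, 1, -1]) (.branch [1, 1, 1] (.last 0 []) (.branch [1, 1, 2] (.last 0 []) (.last 0 [])))) (.branch [1, 1, 1] (.branch [1, 1, 1] (.last 0 []) (.last 0 [])) (.branch [1, 1, 2] (.last 0 []) (.branch [1, 2, 1] (.last 0 []) (.last 0 [])))))))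

theorem sectCert_ok : check 3 sectSols [] sectCert gramRest [] [] = true := by decide +kernel

end Cfsg.Lib.Ree
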