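import Cfsg.Agent.Ree.Section.Coords
import Cfsg.Agent.Ree.Section.Cert

/-!
The section of the involution: the rows of the members with nonzero coordinates.
-/

set_option autoImplicit false
set_option linter.style.haveILetI false
set_option linter.unusedSectionVars false

namespace Cfsg.Lib.Ree

open Cfsg Cfsg.Lib.Chars Cfsg.Lib.GramSplit
open scoped ComplexConjugate

universe u v

variable {G : Type u} [Group G] [Fintype G] {t : G} {E : Subgroup G} [Fintype E] {F : Type v} [Field F]
  [Fintype F] (S : Setting t E F)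
include S

theorem Setting.rowFamily (Tb : PSLTable E (signedCard F)) : Nonempty (RowFamily t E Tb) := by
  classical
  let f : ℕ → E → ℂ := fun i => if i = 0 then Tb.x else if i = 1 then Tb.al else Tb.be
  have hf : ∀ i, IsSpecial (f i) := fun i => by
    simp only [f]
    split_ifs
    exacts [Tb.spec_x, Tb.spec_al, Tb.spec_be]
  choose n hn using fun i => S.coord_int (hf i)
  set o := Chars.principal G with ho
  have h1 : ∀ ψ : E → ℂ, coord t E o ψ = conj (classInner ψ (fun _ => 1)) := fun ψ => by
    rw [classInner_conj_symm]; rfl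
  have n0 : n 0 o = -1 ∧ n 1 o = 0 ∧ n 2 o = 0 := by
    refine ⟨Int.cast_injective (α := ℂ) ?_, Int.cast_injective (α := ℂ) ?_, Int.cast_injective (α := ℂ) ?_⟩ <;>
      rw [← hn, h1] <;>
      simp [f, Tb.inner_x_one, Tb.inner_al_one, Tb.inner_be_one]
  have hgram : ∀ i < 3, ∀ j < 3, ∑ χ, n i χ * n j χ = if i = j then 4 else 2 := by
    intro i hi j hj
    apply Int.cast_injective (α := ℂ)
    rw [Int.cast_sum, Finset.sum_congr rfl fun χ _ => show ((n i χ * n j χ : ℤ) : ℂ) =
      coord t E χ (f i) * conj (coord t E χ (f j)) by rw [hn, hn, map_intCast]; push_cast; rfl,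
      S.isometry (hf i) (hf j)]
    have s1 : classInner Tb.al Tb.x = 1 := by
      rw [← classInner_conj_symm, Tb.inner_xa, map_one]
    have s2 : classInner Tb.be Tb.x = 1 := by
      rw [← classInner_conj_symm, Tb.inner_xb, map_one]
    have s3 : classInner Tb.be Tb.al = 1 := by
      rw [← classInner_conj_symm, Tb.inner_ab, map_one]
    interval_cases i <;> interval_cases j <;>
      simp [f, Tb.inner_xx, Tb.inner_aa, Tb.inner_bb, Tb.inner_xa, Tb.inner_xb, Tb.inner_ab, s1, s2, s3] <;>
      norm_num
  have hRest : ∀ a < 3, ∀ b < 3, GramSplit.get gramRest a b = ∑ χ ∈ Finset.univ.erase o, n a χ * n b χ := by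
    intro a ha b hb
    have e := hgram a ha b hb
    rw [← Finset.add_sum_erase _ _ (Finset.mem_univ o)] at e
    obtain ⟨e0, e1, e2⟩ := n0
    interval_cases a <;> interval_cases b <;>
      simp only [e0, e1, e2, if_true, OfNat.ofNat_ne_zero, OfNat.ofNat_ne_one, one_ne_zero, zero_ne_one,
        OfNat.zero_ne_ofNat, OfNat.one_ne_ofNat, if_false] at e <;>
      simp only [GramSplit.get, gramRest, List.getD_cons_zero, List.getD_cons_succ] <;> linarith only [e]
  obtain ⟨L, hnd, hLs, hrest, l, hl, hp⟩ := sound sectSols n (kn := []) (by simp) sectCert gramRest [] []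
    sectCert_ok (Finset.univ.erase o) hRest (fun x _ => List.not_mem_nil)
  obtain ⟨L', hL', hmap⟩ := exists_perm_map (fun x => nrm (col 3 n x)) (by simpa using hp)
  set sg : IrrCharacter G → ℤ := fun x =>
    if x = o then -1 else if nrm (col 3 n x) = col 3 n x then 1 else -1 with hsg
  have sg_sq : ∀ x, sg x * sg x = 1 := fun x => by simp only [hsg]; split_ifs <;> rfl
  have hsgn : ∀ x, x ≠ o → ∀ i < 3, n i x = sg x * ent (nrm (col 3 n x)) i := fun x hx i hi => by
    have hc' : ent (col 3 n x) i = n i x := ent_col hi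
    simp only [hsg, if_neg hx]
    split_ifs with he
    · rw [he, hc', one_mul]
    · rw [(nrm_sign _).resolve_left he]
      have e : ent ((col 3 n x).map Neg.neg) i = -ent (col 3 n x) i := by
        simp [ent, col, List.getD_eq_getElem?_getD, hi]
      rw [e, hc']; ring
  have hmem : ∀ x, x ∈ L' ↔ x ∈ L := fun x => hL'.mem_iff
  have hne : ∀ x ∈ L', x ≠ o := fun x hx => (Finset.mem_erase.1 (hLs x ((hmem x).1 hx))).1
  have hnd' : L'.Nodup := hL'.nodup_iff.2 hnd
  -- the decomposition with a member of degree zero does not occur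
  have hgood : l ≠ sectBad := by
    intro e
    subst e
    have hz : ∀ χ, χ ≠ o → χ ∉ L' → n 1 χ - n 2 χ = 0 := fun χ h h' => by
      have := hrest χ (Finset.mem_erase.2 ⟨h, Finset.mem_univ _⟩) (fun m => h' ((hmem χ).2 m))
      rw [this 1 (by norm_num), this 2 (by norm_num), sub_zero]
    have hsum : ∑ χ, (n 1 χ - n 2 χ) * (deg (χ : G → ℂ) : ℤ) = 0 := by
      apply Int.cast_injective (α := ℂ)
      have ha := S.sectFacts.degree (f 1) (hf 1)
      have hb := S.sectFacts.degree (f 2) (hf 2)
      simp only [hn, irr_apply_one_eq_deg] at ha hb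
      simp only [sub_mul, Finset.sum_sub_distrib, Int.cast_sub, Int.cast_sum, Int.cast_mul, Int.cast_natCast,
        Int.cast_zero]
      rw [ha, hb, sub_zero]
    rw [← Finset.add_sum_erase _ _ (Finset.mem_univ o), n0.2.1, n0.2.2, sub_zero, zero_mul, zero_add,
      ← Finset.sum_subset (s₁ := L'.toFinset) (fun x hx => Finset.mem_erase.2
        ⟨hne x (List.mem_toFinset.1 hx), Finset.mem_univ _⟩) (fun x hx hx' => by
          rw [hz x (Finset.mem_erase.1 hx).1 (fun m => hx' (List.mem_toFinset.2 m)), zero_mul]),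
      List.sum_toFinset _ hnd'] at hsum
    obtain ⟨c, L'', rfl, hc, hmap'⟩ : ∃ c L'', L' = c :: L'' ∧ nrm (col 3 n c) = [0, 1, -1] ∧
        L''.map (fun x => nrm (col 3 n x)) = [[0, 1, 1], [1, 0, 0], [1, 1, 1], [1, 1, 1]] := by
      cases L' with
      | nil => simp [sectBad] at hmap
      | cons c L'' =>
        simp only [List.map_cons, sectBad, List.cons.injEq] at hmap
        exact ⟨c, L'', rfl, hmap.1, hmap.2⟩
    have h0 : ∀ x ∈ L'', (n 1 x - n 2 x) * (deg (x : G → ℂ) : ℤ) = 0 := by
      intro x hx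
      have hxr : nrm (col 3 n x) ∈ L''.map (fun x => nrm (col 3 n x)) := List.mem_map_of_mem hx
      rw [hmap'] at hxr
      rw [hsgn x (hne x (List.mem_cons_of_mem _ hx)) 1 (by norm_num),
        hsgn x (hne x (List.mem_cons_of_mem _ hx)) 2 (by norm_num)]
      simp only [List.mem_cons, List.not_mem_nil, or_false] at hxr
      rcases hxr with e | e | e | e <;> simp [e, ent]
    rw [List.map_cons, List.sum_cons, List.sum_eq_zero (l := L''.map _) (fun z hz' => by
      obtain ⟨x, hx, rfl⟩ := List.mem_map.1 hz'; exact h0 x hx), add_zero,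
      hsgn c (hne c (List.mem_cons_self)) 1 (by norm_num), hsgn c (hne c (List.mem_cons_self)) 2 (by norm_num),
      hc] at hsum
    simp only [ent, List.getD_cons_zero, List.getD_cons_succ] at hsum
    have hd := deg_irr_pos c
    rcases mul_eq_zero.1 hsum with h | h
    · rcases mul_self_eq_one_iff.1 (sg_sq c) with e | e <;> rw [e] at h <;> norm_num at h
    · omega
  set row : IrrCharacter G → ℤ × ℤ × ℤ := fun x => if x = o then (1, 0, 0) else
    (ent (nrm (col 3 n x)) 0, ent (nrm (col 3 n x)) 1, ent (nrm (col 3 n x)) 2) with hrow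
  refine ⟨{
    L := o :: L'
    row := row
    sg := sg
    nodup := List.nodup_cons.2 ⟨fun h => hne o h rfl, hnd'⟩
    mem_systems := ?_
    head := ⟨o, L', rfl, rfl, by simp [hsg]⟩
    sg_sq := sg_sq
    coords := ?_
    rest := ?_ }⟩
  · have htail : L'.map row = l.map fun r => (ent r 0, ent r 1, ent r 2) := by
      rw [← hmap, List.map_map]
      exact List.map_congr_left fun x hx => by simp [hrow, hne x hx]
    rw [List.map_cons, show row o = (1, 0, 0) by simp [hrow], htail]
    simp only [sectSols, List.mem_cons, List.not_mem_nil, or_false] at hl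
    rcases hl with rfl | rfl | rfl | rfl | rfl
    · exact List.mem_cons_self
    · exact List.mem_cons_of_mem _ List.mem_cons_self
    · exact List.mem_cons_of_mem _ (List.mem_cons_of_mem _ List.mem_cons_self)
    · exact List.mem_cons_of_mem _ (List.mem_cons_of_mem _ (List.mem_cons_of_mem _ List.mem_cons_self))
    · exact absurd rfl hgood
  · intro χ hχ
    have c0 := hn 0 χ; have c1 := hn 1 χ; have c2 := hn 2 χ
    simp only [f, if_true, one_ne_zero, if_false, OfNat.ofNat_ne_zero, OfNat.ofNat_ne_one] at c0 c1 c2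
    rw [c0, c1, c2]
    rcases List.mem_cons.1 hχ with rfl | hχ
    · simp [hrow, hsg, n0]
    · simp only [hrow, if_neg (hne χ hχ)]
      refine ⟨?_, ?_, ?_⟩ <;> rw [← hsgn χ (hne χ hχ) _ (by norm_num)]
  · intro χ hχ
    rw [List.mem_cons, not_or] at hχ
    have h := hrest χ (Finset.mem_erase.2 ⟨hχ.1, Finset.mem_univ _⟩) (fun m => hχ.2 ((hmem χ).2 m))
    have c0 := hn 0 χ; have c1 := hn 1 χ; have c2 := hn 2 χ
    simp only [f, if_true, one_ne_zero, if_false, OfNat.ofNat_ne_zero, OfNat.ofNat_ne_one, h 0 (by norm_num),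
      h 1 (by norm_num), h 2 (by norm_num), Int.cast_zero] at c0 c1 c2
    exact ⟨c0, c1, c2⟩

end Cfsg.Lib.Ree
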