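import Cfsg.Agent.Ree.Section.Block
import Cfsg.Agent.Ree.Section.Rows

/-!
The section of the involution: the target.
-/

set_option autoImplicit false

namespace Cfsg.Lib.Ree

universe u v

theorem sectSpec : SectSpec.{u, v} := fun _ _ _ _ _ _ _ _ _ S Tb _ hM =>
  ⟨S.sectFacts, S.sectBlock hM Tb, S.rowFamily Tb⟩

end Cfsg.Lib.Ree
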