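import Cfsg.Agent.Ree.PSL.Spec

/-!
The section of the involution: coordinates of the characters, the principal block, the count of pairs of
involutions; see `notes/ree_order_v1.md`, part A.
-/

set_option autoImplicit false

namespace Cfsg.Lib.Ree

open Cfsg
open scoped ComplexConjugate

universe u v

variable {G : Type u} [Group G] [Fintype G] (t : G) (E : Subgroup G) [Fintype E]

/-- The values on the translate of `E`. -/
def sectVal (χ : IrrCharacter G) : E → ℂ := fun y => (χ : G → ℂ) (t * (y : G))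

/-- The multiplicity of a special function at a character. -/
noncomputable def coord (χ : IrrCharacter G) (ψ : E → ℂ) : ℂ := classInner (sectVal t E χ) ψ

/-- The general facts. -/
structure SectFacts (F : Type v) [Field F] [Fintype F] : Prop where
  coord_int : ∀ (ψ : E → ℂ), IsSpecial ψ → ∀ χ : IrrCharacter G, ∃ z : ℤ, coord t E χ ψ = z
  isometry : ∀ (ψ φ : E → ℂ), IsSpecial ψ → IsSpecial φ →
    ∑ χ : IrrCharacter G, coord t E χ ψ * conj (coord t E χ φ) = 2 * classInner ψ φ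
  section_sum : ∀ (ψ : E → ℂ), IsSpecial ψ → ∀ y : E, Odd (orderOf y) →
    ∑ χ : IrrCharacter G, coord t E χ ψ * (χ : G → ℂ) (t * (y : G)) = 2 * ψ y
  odd_sum : ∀ (ψ : E → ℂ), IsSpecial ψ → ∀ g : G, Odd (orderOf g) →
    ∑ χ : IrrCharacter G, coord t E χ ψ * (χ : G → ℂ) g = 0
  degree : ∀ (ψ : E → ℂ), IsSpecial ψ → ∑ χ : IrrCharacter G, coord t E χ ψ * (χ : G → ℂ) 1 = 0
  index : Odd (Subgroup.centralizer ({t} : Set G)).index
  order : Nat.card G = (Subgroup.centralizer ({t} : Set G)).index *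
    (Fintype.card F * (Fintype.card F ^ 2 - 1))
  conj_all : ∀ s : G, orderOf s = 2 → IsConj t s
  value_int : ∀ χ : IrrCharacter G, ∃ u : ℤ, (χ : G → ℂ) t = u ∧ (8 : ℤ) ∣ (Chars.deg (χ : G → ℂ) : ℤ) - u ∧
    (Chars.deg (χ : G → ℂ) : ℤ) ∣ ((Subgroup.centralizer ({t} : Set G)).index : ℤ) * u
  count : ∀ (ψ : E → ℂ), IsSpecial ψ →
    ∑ χ : IrrCharacter G, (χ : G → ℂ) t ^ 2 * coord t E χ (fun y => conj (ψ y)) / (χ : G → ℂ) 1 =
      (Nat.card (Subgroup.centralizer ({t} : Set G)) : ℂ) ^ 2 / (Nat.card G : ℂ) * classInner pairCount ψ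

/-- The separation by the principal block. -/
structure SectBlock {Q : ℤ} (Tb : PSLTable E Q) (M : Ideal AlgInt) : Prop where
  inside : ∀ χ : IrrCharacter G, χ ∈ principalBlock M G →
    (∀ y : E, Odd (orderOf y) → sectVal t E χ y =
      -coord t E χ Tb.x + coord t E χ Tb.al * Tb.A y + coord t E χ Tb.be * Tb.B y) ∧
    (∀ θ, θ ≠ 1 → coord t E χ (Tb.phi θ) = 0) ∧ ∀ j, coord t E χ (Tb.psi j) = 0
  outside : ∀ χ : IrrCharacter G, χ ∉ principalBlock M G →
    coord t E χ Tb.x = 0 ∧ coord t E χ Tb.al = 0 ∧ coord t E χ Tb.be = 0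

/-- The possible systems of rows, the row of the principal character first. -/
def systems : List (List (ℤ × ℤ × ℤ)) :=
  [[(1, 0, 0), (0, 1, 0), (0, 1, 0), (1, 0, 0), (1, 1, 0), (1, 1, 2)],
   [(1, 0, 0), (0, 0, 1), (0, 0, 1), (1, 0, 0), (1, 0, 1), (1, 2, 1)],
   [(1, 0, 0), (0, 0, 1), (0, 1, 0), (0, 1, 1), (1, 0, 1), (1, 1, 0), (1, 1, 1)],
   [(1, 0, 0), (1, 0, 0), (0, 1, 0), (0, 1, 0), (0, 0, 1), (0, 0, 1), (1, 1, 1), (1, 1, 1)]]

/-- The members with nonzero coordinates, with their rows and signs. -/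
structure RowFamily {Q : ℤ} (Tb : PSLTable E Q) where
  L : List (IrrCharacter G)
  row : IrrCharacter G → ℤ × ℤ × ℤ
  sg : IrrCharacter G → ℤ
  nodup : L.Nodup
  mem_systems : L.map row ∈ systems
  head : ∃ (o : IrrCharacter G) (L' : List (IrrCharacter G)), L = o :: L' ∧ (o : G → ℂ) = (fun _ => 1) ∧ sg o = -1
  sg_sq : ∀ χ, sg χ * sg χ = 1
  coords : ∀ χ ∈ L, coord t E χ Tb.x = ((sg χ * (row χ).1 : ℤ) : ℂ) ∧
    coord t E χ Tb.al = ((sg χ * (row χ).2.1 : ℤ) : ℂ) ∧ coord t E χ Tb.be = ((sg χ * (row χ).2.2 : ℤ) : ℂ)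
  rest : ∀ χ, χ ∉ L → coord t E χ Tb.x = 0 ∧ coord t E χ Tb.al = 0 ∧ coord t E χ Tb.be = 0

/-- The targets of the piece. -/
def SectSpec : Prop :=
  ∀ (G : Type u) [Group G] [Fintype G] (t : G) (E : Subgroup G) [Fintype E] (F : Type v) [Field F] [Fintype F],
    Setting t E F → ∀ (Tb : PSLTable E (signedCard F)) (M : Ideal AlgInt), IsPModular 2 M →
      SectFacts t E F ∧ SectBlock t E Tb M ∧ Nonempty (RowFamily t E Tb)

end Cfsg.Lib.Ree
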