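import Cfsg.Agent.Ree.Setting
import Cfsg.Agent.Blocks.Columns
import Cfsg.Agent.Classical.Misc.SmallPSL

/-!
The section of the involution: the group facts.  The centralizer is `⟨t⟩ × E`, its index is odd and all
involutions are conjugate.
-/

set_option autoImplicit false
set_option linter.style.haveILetI false
set_option linter.unusedSectionVars false

namespace Cfsg.Lib.Ree

open Subgroup

universe u v

variable {G : Type u} [Group G] [Finite G] {t : G} {E : Subgroup G} {F : Type v} [Field F] [Fintype F]
  (S : Setting t E F)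
include S

theorem Setting.mem_C {x : G} : x ∈ centralizer ({t} : Set G) ↔ Commute t x := by
  rw [mem_centralizer_singleton_iff]
  exact ⟨fun h => h.symm, fun h => h.eq.symm⟩

theorem Setting.E_le_C : E ≤ centralizer ({t} : Set G) := fun e he => S.mem_C.2 (S.hyp.comm e he)

theorem Setting.t_mem_C : t ∈ centralizer ({t} : Set G) := S.mem_C.2 (Commute.refl t)

theorem Setting.t_not_odd : ¬ Odd (orderOf t) := by rw [S.hyp.ord]; decide

/-- An element of the centralizer is an element of `E`, possibly times `t`. -/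
theorem Setting.split {x : G} (hx : Commute t x) : ∃ e ∈ E, x = e ∨ x = t * e := S.hyp.split x hx.symm

theorem Setting.odd_mem_E {x : G} (hx : Commute t x) (ho : Odd (orderOf x)) : x ∈ E :=
  S.hyp.odd_mem_E ho hx.symm

/-- Uniqueness of the decomposition. -/
theorem Setting.split_unique {e e' : G} (he : e ∈ E) (he' : e' ∈ E) : e ≠ t * e' := fun h =>
  S.hyp.disj (by rw [show t = e * e'⁻¹ by rw [h]; group]; exact mul_mem he (inv_mem he'))

/-- The centralizer as a product. -/
noncomputable def Setting.equivC : Bool × E ≃ centralizer ({t} : Set G) :=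
  Equiv.ofBijective (fun w => ⟨(if w.1 then t else 1) * (w.2 : G),
      mul_mem (by cases w.1 <;> simp [S.t_mem_C]) (S.E_le_C w.2.2)⟩)
    ⟨by
      rintro ⟨b, e⟩ ⟨b', e'⟩ h
      have h' := congrArg Subtype.val h
      dsimp only at h'
      cases b <;> cases b' <;> simp only [Bool.false_eq_true, if_false, if_true, one_mul] at h'
      · exact Prod.ext rfl (Subtype.ext h')
      · exact absurd h' (S.split_unique e.2 e'.2)
      · exact absurd h'.symm (S.split_unique e'.2 e.2)
      · exact Prod.ext rfl (Subtype.ext (mul_left_cancel h')),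
    fun x => by
      obtain ⟨e, he, hxe | hxe⟩ := S.split (S.mem_C.1 x.2)
      · exact ⟨(false, ⟨e, he⟩), Subtype.ext (by simp [hxe])⟩
      · exact ⟨(true, ⟨e, he⟩), Subtype.ext (by simp [hxe])⟩⟩

theorem Setting.equivC_apply (w : Bool × E) :
    ((S.equivC w : centralizer ({t} : Set G)) : G) = (if w.1 then t else 1) * (w.2 : G) := rfl

theorem Setting.card_C : Nat.card (centralizer ({t} : Set G)) = 2 * Nat.card E := by
  rw [← Nat.card_congr S.equivC, Nat.card_prod, Nat.card_eq_fintype_card (α := Bool), Fintype.card_bool]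

theorem Setting.card_E : 2 * Nat.card E = Fintype.card F * (Fintype.card F ^ 2 - 1) := by
  obtain ⟨f⟩ := S.hyp.iso
  have h := Cfsg.Lib.Classical.SmallPSL.card_psl (F := F) rfl
  rw [Nat.gcd_eq_left (by obtain ⟨k, hk⟩ := S.hyp.odd; exact ⟨k, by omega⟩)] at h
  rw [Nat.card_congr f.toEquiv, h]

theorem Setting.index_odd : Odd (centralizer ({t} : Set G)).index := by
  haveI : Fact (Nat.Prime 2) := ⟨Nat.prime_two⟩
  obtain ⟨T, a, b, n, hs⟩ := AbCentMax.exists_sys S.hyp S.ab
  rw [Nat.odd_iff, ← Nat.two_dvd_ne_zero]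
  exact fun h => T.not_dvd_index (h.trans (index_dvd_of_le fun x hx => S.mem_C.2 (hs.tcomm t hs.tT x hx)))

theorem Setting.order : Nat.card G = (centralizer ({t} : Set G)).index *
    (Fintype.card F * (Fintype.card F ^ 2 - 1)) := by
  rw [← S.card_E, ← S.card_C, index_mul_card]

/-- All involutions are conjugate. -/
theorem Setting.conj_all {s : G} (hs : orderOf s = 2) : IsConj t s := by
  classical
  haveI : Fact (Nat.Prime 2) := ⟨Nat.prime_two⟩
  haveI := S.simple
  haveI := Fintype.ofFinite G
  obtain ⟨T, a, b, n, hy⟩ := AbCentMax.exists_sys S.hyp S.ab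
  haveI : IsMulCommutative (T : Subgroup G) := ⟨⟨fun x y => Subtype.ext (hy.tcomm x x.2 y y.2)⟩⟩
  -- `s` has a conjugate in `T`
  obtain ⟨Q, hQ⟩ := (IsPGroup.of_card (G := zpowers s) (p := 2) (n := 1)
    (by rw [Nat.card_zpowers, hs, pow_one])).exists_le_sylow
  obtain ⟨g, hg⟩ := MulAction.exists_smul_eq G Q T
  have hsT : g * s * g⁻¹ ∈ T := hg ▸ ⟨s, hQ (mem_zpowers s), rfl⟩
  suffices key : ∀ x ∈ T, orderOf x = 2 → IsConj t x from
    (key _ hsT (by rw [← MulAut.conj_apply, MulEquiv.orderOf_eq, hs])).trans (isConj_iff.2 ⟨g, rfl⟩).symm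
  -- fusion in the normaliser
  have hfus : ∀ x ∈ T, ∀ y ∈ T, IsConj x y → ∃ g ∈ normalizer ((T : Subgroup G) : Set G), g * x * g⁻¹ = y := by
    intro x hx y hy' h
    obtain ⟨c, hc⟩ := isConj_iff.1 h
    obtain ⟨m, hm, e⟩ := T.conj_eq_normalizer_conj_of_mem x c⁻¹ hx (by rw [inv_inv, hc]; exact hy')
    exact ⟨m⁻¹, inv_mem hm, by rw [inv_inv, ← e, inv_inv, hc]⟩
  have hn : IsConj a b ∧ IsConj b (a * b) :=
    ⟨isConj_iff.2 ⟨n, hy.na⟩, isConj_iff.2 ⟨n, hy.nb⟩⟩
  have htn : n * t * n⁻¹ = t :=
    mul_inv_eq_iff_eq_mul.2 (S.hyp.comm n hy.nE).eq.symm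
  have hn' : IsConj (t * a) (t * b) ∧ IsConj (t * b) (t * (a * b)) :=
    ⟨isConj_iff.2 ⟨n, by rw [← conj_mul, hy.na, htn]⟩, isConj_iff.2 ⟨n, by rw [← conj_mul, hy.nb, htn]⟩⟩
  have hab : a * b ∈ T := (T : Subgroup G).mul_mem hy.aT hy.bT
  have htaT : t * a ∈ T := (T : Subgroup G).mul_mem hy.tT hy.aT
  -- the first triple
  by_cases h1 : IsConj t a
  · by_cases h2 : IsConj t (t * a)
    · intro x hx hx2
      obtain ⟨v, hv, hxv | hxv⟩ := hy.cases x hx <;> subst hxv
      · rcases hv with rfl | rfl | rfl | rfl
        · rw [orderOf_one] at hx2; omega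
        exacts [h1, h1.trans hn.1, (h1.trans hn.1).trans hn.2]
      · rcases hv with rfl | rfl | rfl | rfl
        · rw [mul_one]
        exacts [h2, h2.trans hn'.1, (h2.trans hn'.1).trans hn'.2]
    · exfalso
      obtain ⟨g, hgN, hg⟩ := hfus t hy.tT a hy.aT h1
      have hA : ∀ x ∈ T, IsConj t x → x = t ∨ x = a ∨ x = b ∨ x = a * b := by
        intro x hx hc
        obtain ⟨v, hv, hxv | hxv⟩ := hy.cases x hx <;> subst hxv
        · rcases hv with rfl | rfl | rfl | rfl
          · exact absurd (isConj_one_left.1 hc) S.hyp.t_ne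
          all_goals simp
        · rcases hv with rfl | rfl | rfl | rfl
          · simp
          · exact absurd hc h2
          · exact absurd (hc.trans hn'.1.symm) h2
          · exact absurd ((hc.trans hn'.2.symm).trans hn'.1.symm) h2
      have hmem : ∀ x ∈ T, IsConj t x → g * x * g⁻¹ ∈ T ∧ IsConj t (g * x * g⁻¹) := fun x hx hc =>
        ⟨(mem_normalizer_iff.1 hgN x).1 hx, hc.trans (isConj_iff.2 ⟨g, rfl⟩)⟩
      have himg : ∀ x ∈ T, IsConj t x → g * x * g⁻¹ = t ∨ g * x * g⁻¹ = a ∨ g * x * g⁻¹ = b ∨
          g * x * g⁻¹ = a * b := fun x hx hc => hA _ (hmem x hx hc).1 (hmem x hx hc).2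
      have hinj : ∀ {x y : G}, g * x * g⁻¹ = g * y * g⁻¹ → x = y := fun h => (MulAut.conj g).injective h
      have ha1 : a ≠ 1 := fun e => by have := hy.ao; rw [e, orderOf_one] at this; omega
      have hb1 : b ≠ 1 := fun e => by have := hy.bo; rw [e, orderOf_one] at this; omega
      have haE : a ∈ E := hy.aE
      have hbE : b ∈ E := hy.bE
      have habE : a * b ∈ E := mul_mem haE hbE
      have d1 : t ≠ a := fun e => S.hyp.disj (e ▸ haE)
      have d2 : t ≠ b := fun e => S.hyp.disj (e ▸ hbE)
      have d3 : t ≠ a * b := fun e => S.hyp.disj (e ▸ habE)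
      have d4 : a ≠ a * b := fun e => hb1 (mul_eq_left.1 e.symm)
      have d5 : b ≠ a * b := fun e => ha1 (mul_eq_right.1 e.symm)
      -- the three images are `t`, `b`, `a * b` in some order, so `t` is in `E`
      have hgot : ∀ x, x ∈ T → IsConj t x → x ≠ t → g * x * g⁻¹ = t ∨ g * x * g⁻¹ = b ∨
          g * x * g⁻¹ = a * b := fun x hx hc hne => by
        rcases himg x hx hc with e | e | e | e
        exacts [Or.inl e, absurd (hinj (e.trans hg.symm)) hne, Or.inr (Or.inl e), Or.inr (Or.inr e)]
      rcases hgot a hy.aT h1 d1.symm with e1 | e1 | e1 <;>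
        rcases hgot b hy.bT (h1.trans hn.1) d2.symm with e2 | e2 | e2 <;>
        rcases hgot (a * b) hab ((h1.trans hn.1).trans hn.2) d3.symm with e3 | e3 | e3
      all_goals first
        | exact hy.ne (hinj (e1.trans e2.symm))
        | exact d4 (hinj (e1.trans e3.symm))
        | exact d5 (hinj (e2.trans e3.symm))
        | skip
      all_goals
        rw [← conj_mul, e1, e2] at e3
        refine S.hyp.disj ?_
      all_goals first
        | (rw [eq_mul_inv_of_mul_eq e3]; exact mul_mem habE (inv_mem hbE))
        | (rw [eq_mul_inv_of_mul_eq e3]; exact mul_mem hbE (inv_mem habE))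
        | (rw [eq_inv_mul_of_mul_eq e3]; exact mul_mem (inv_mem hbE) habE)
        | (rw [eq_inv_mul_of_mul_eq e3]; exact mul_mem (inv_mem habE) hbE)
        | (rw [← e3]; exact mul_mem hbE habE)
        | (rw [← e3]; exact mul_mem habE hbE)
  · exfalso
    by_cases h2 : IsConj t (t * a)
    · -- four conjugates: an even index in the normaliser of `T`
      set N := normalizer ((T : Subgroup G) : Set G) with hN
      set K := (centralizer ({t} : Set G)).subgroupOf N with hK
      let A := {x : G // x ∈ T ∧ IsConj t x}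
      have hA : ∀ x ∈ T, IsConj t x → x = t ∨ x = t * a ∨ x = t * b ∨ x = t * (a * b) := by
        intro x hx hc
        obtain ⟨v, hv, hxv | hxv⟩ := hy.cases x hx <;> subst hxv
        · rcases hv with rfl | rfl | rfl | rfl
          · exact absurd (isConj_one_left.1 hc) S.hyp.t_ne
          · exact absurd hc h1
          · exact absurd (hc.trans hn.1.symm) h1
          · exact absurd ((hc.trans hn.2.symm).trans hn.1.symm) h1
        · rcases hv with rfl | rfl | rfl | rfl <;> simp
      have hcardA : Nat.card A = 4 := by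
        have hb2 := h2.trans hn'.1
        have hab2 := hb2.trans hn'.2
        have ha1 : a ≠ 1 := fun e => by have := hy.ao; rw [e, orderOf_one] at this; omega
        have hb1 : b ≠ 1 := fun e => by have := hy.bo; rw [e, orderOf_one] at this; omega
        have hne : a * b ≠ 1 := fun e => hy.ne (by
          rw [eq_inv_of_mul_eq_one_right e, inv_eq_of_mul_eq_one_right
            (show a * a = 1 by rw [← pow_two, ← hy.ao, pow_orderOf_eq_one])])
        rw [Nat.card_eq_fintype_card, Fintype.card_subtype,
          show (Finset.univ.filter fun x : G => x ∈ T ∧ IsConj t x) = {t, t * a, t * b, t * (a * b)} by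
            ext x
            simp only [Finset.mem_filter, Finset.mem_univ, true_and, Finset.mem_insert, Finset.mem_singleton]
            refine ⟨fun h => hA x h.1 h.2, ?_⟩
            rintro (rfl | rfl | rfl | rfl)
            exacts [⟨hy.tT, IsConj.refl _⟩, ⟨htaT, h2⟩, ⟨(T : Subgroup G).mul_mem hy.tT hy.bT, hb2⟩,
              ⟨(T : Subgroup G).mul_mem hy.tT hab, hab2⟩]]
        rw [Finset.card_insert_of_notMem, Finset.card_insert_of_notMem, Finset.card_insert_of_notMem,
          Finset.card_singleton] <;> simp [ha1, hb1, hne, hy.ne]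
      have hidx : K.index = 4 := by
        rw [← hcardA]
        refine Nat.card_congr (Equiv.ofBijective (fun q : N ⧸ K => Quotient.liftOn' q
          (fun g => (⟨(g : G) * t * (g : G)⁻¹, (mem_normalizer_iff.1 g.2 t).1 hy.tT,
            isConj_iff.2 ⟨g, rfl⟩⟩ : A)) ?_) ⟨?_, ?_⟩)
        · intro g g' h
          rw [QuotientGroup.leftRel_apply, hK, mem_subgroupOf, S.mem_C] at h
          refine Subtype.ext ?_
          calc (g : G) * t * (g : G)⁻¹
              = g * (t * ((g : G)⁻¹ * g')) * (g' : G)⁻¹ := by group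
            _ = g * (((g : G)⁻¹ * g') * t) * (g' : G)⁻¹ := by
              have h' : Commute t ((g : G)⁻¹ * g') := by simpa using h
              rw [h'.eq]
            _ = g' * t * (g' : G)⁻¹ := by group
        · intro q q' h
          induction q using QuotientGroup.induction_on with
          | H g =>
          induction q' using QuotientGroup.induction_on with
          | H g' =>
          rw [QuotientGroup.eq, hK, mem_subgroupOf, S.mem_C]
          have h' : (g : G) * t * (g : G)⁻¹ = (g' : G) * t * (g' : G)⁻¹ := congrArg Subtype.val h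
          show t * ((g⁻¹ * g' : N) : G) = _
          push_cast
          calc t * ((g : G)⁻¹ * g') = (g : G)⁻¹ * ((g : G) * t * (g : G)⁻¹) * g' := by group
            _ = (g : G)⁻¹ * g' * t := by rw [h']; group
        · rintro ⟨x, hx, hc⟩
          obtain ⟨g, hg, e⟩ := hfus t hy.tT x hx hc
          exact ⟨QuotientGroup.mk ⟨g, hg⟩, Subtype.ext e⟩
      have h4 : (4 : ℕ) ∣ (T : Subgroup G).index := by
        have hTK : (T : Subgroup G) ≤ centralizer ({t} : Set G) := fun x hx =>
          S.mem_C.2 (hy.tcomm t hy.tT x hx)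
        have h1 : K.index ∣ (T : Subgroup G).relIndex N := relIndex_dvd_of_le_left N hTK
        exact hidx ▸ h1.trans (relIndex_dvd_index_of_le le_normalizer)
      exact T.not_dvd_index ((show 2 ∣ 4 by norm_num).trans h4)
    · -- `t` is isolated
      have hiso : Cfsg.IsIsolatedInvolution t := by
        refine ⟨S.hyp.ord, fun g hc => ?_⟩
        set x := g * t * g⁻¹ with hx
        have hxconj : IsConj t x := isConj_iff.2 ⟨g, rfl⟩
        have hp : IsPGroup 2 (zpowers x) := IsPGroup.of_card (n := 1)
          (by rw [Nat.card_zpowers, hx, ← MulAut.conj_apply, MulEquiv.orderOf_eq, S.hyp.ord, pow_one])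
        have ht : IsPGroup 2 (zpowers t) := IsPGroup.of_card (n := 1)
          (by rw [Nat.card_zpowers, S.hyp.ord, pow_one])
        obtain ⟨Q, hQ⟩ := (ht.to_sup_of_normal_right' hp (zpowers_le.2 (centralizer_le_normalizer _
          (mem_centralizer_iff.2 fun y hy' => by
            obtain ⟨i, rfl⟩ := mem_zpowers_iff.1 hy'
            exact (hc.zpow_right i).eq.symm)))).exists_le_sylow
        obtain ⟨c, hcc⟩ := MulAction.exists_smul_eq G Q T
        have htQ : c * t * c⁻¹ ∈ T := hcc ▸ ⟨t, hQ (mem_sup_left (mem_zpowers t)), rfl⟩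
        have hxQ : c * x * c⁻¹ ∈ T := hcc ▸ ⟨x, hQ (mem_sup_right (mem_zpowers x)), rfl⟩
        have honly : ∀ y ∈ T, IsConj t y → y = t := by
          intro y hyT hcy
          obtain ⟨v, hv, hxv | hxv⟩ := hy.cases y hyT <;> subst hxv
          · rcases hv with rfl | rfl | rfl | rfl
            · exact absurd (isConj_one_left.1 hcy) S.hyp.t_ne
            · exact absurd hcy h1
            · exact absurd (hcy.trans hn.1.symm) h1
            · exact absurd ((hcy.trans hn.2.symm).trans hn.1.symm) h1
          · rcases hv with rfl | rfl | rfl | rfl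
            · rw [mul_one]
            · exact absurd hcy h2
            · exact absurd (hcy.trans hn'.1.symm) h2
            · exact absurd ((hcy.trans hn'.2.symm).trans hn'.1.symm) h2
        have e1 := honly _ htQ (isConj_iff.2 ⟨c, rfl⟩)
        have e2 := honly _ hxQ (hxconj.trans (isConj_iff.2 ⟨c, rfl⟩))
        exact (MulAut.conj c).injective (e2.trans e1.symm)
      rcases IsSimpleGroup.eq_bot_or_eq_top_of_normal (Cfsg.pPrimeCore 2 G)
          (Cfsg.Lib.Components.normal_of_mem_sSup_normal fun _ h => h.1) with h | h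
      · have hz := Cfsg.Lib.ZStarApps.zstarProp hiso
        simp only [h, mem_bot, mul_inv_eq_iff_eq_mul, one_mul] at hz
        have hcent : t ∈ center G := mem_center_iff.2 fun g => (hz g).symm
        rcases IsSimpleGroup.eq_bot_or_eq_top_of_normal (center G) inferInstance with e | e
        · rw [e, mem_bot] at hcent; exact S.hyp.t_ne hcent
        · exact S.nab ⟨⟨fun x y => (mem_center_iff.1 (e ▸ mem_top y) x)⟩⟩
      · have := Cfsg.Lib.ZStarApps.odd_card_pPrimeCore (G := G)
        rw [h, card_top] at this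
        exact S.t_not_odd (this.of_dvd_nat (orderOf_dvd_natCard t))

end Cfsg.Lib.Ree
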