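import Cfsg.Agent.Ree.Section.Coords
import Cfsg.Agent.Chars.Quotient

/-!
The section of the involution: the principal block of the centralizer is that of `E`, and by the second main
theorem the principal block of the group is separated by the coordinates at `x`, `al`, `be`.
-/

set_option autoImplicit false
set_option linter.style.haveILetI false
set_option linter.unusedSectionVars false

namespace Cfsg.Lib.Ree

open Cfsg Cfsg.Lib.Chars Cfsg.Lib.Blocks
open scoped ComplexConjugate

universe u v

variable {G : Type u} [Group G] [Fintype G] {t : G} {E : Subgroup G} [Fintype E] {F : Type v} [Field F]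
  [Fintype F] (S : Setting t E F)
include S

theorem Setting.equivC_mul (b b' : Bool) (e e' : E) :
    S.equivC (b ^^ b', e * e') = S.equivC (b, e) * S.equivC (b', e') := by
  refine Subtype.ext ?_
  rw [Subgroup.coe_mul, S.equivC_apply, S.equivC_apply, S.equivC_apply]
  have h := (S.hyp.comm _ e.2).eq
  have h2 : (if b then t else 1) * (e : G) * ((if b' then t else 1) * (e' : G)) =
      (if b then t else 1) * (if b' then t else 1) * ((e : G) * e') := by
    cases b' <;> simp only [Bool.false_eq_true, if_false, if_true, one_mul, mul_one, mul_assoc]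
    rw [← mul_assoc (e : G) t, ← h, mul_assoc t]
  rw [h2, Subgroup.coe_mul]
  congr 1
  cases b <;> cases b' <;> simp [S.tt]

/-- The projection of the centralizer onto `E`. -/
noncomputable def Setting.proj : ↥(Subgroup.centralizer ({t} : Set G)) →* E :=
  MonoidHom.mk' (fun x => (S.equivC.symm x).2) fun x x' => by
    show (S.equivC.symm (x * x')).2 = (S.equivC.symm x).2 * (S.equivC.symm x').2
    rw [show S.equivC.symm (x * x') = ((S.equivC.symm x).1 ^^ (S.equivC.symm x').1,
        (S.equivC.symm x).2 * (S.equivC.symm x').2) by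
      rw [Equiv.symm_apply_eq, S.equivC_mul, Prod.mk.eta, Prod.mk.eta, Equiv.apply_symm_apply,
        Equiv.apply_symm_apply]]

theorem Setting.proj_equivC (w : Bool × E) : S.proj (S.equivC w) = w.2 := by
  show (S.equivC.symm (S.equivC w)).2 = w.2
  rw [Equiv.symm_apply_apply]

theorem Setting.proj_incl (e : E) : S.proj (Subgroup.inclusion S.E_le_C e) = e := by
  rw [show Subgroup.inclusion S.E_le_C e = S.equivC (false, e) from Subtype.ext (by
    rw [S.equivC_apply]; simp), S.proj_equivC]

theorem Setting.proj_surjective : Function.Surjective S.proj := fun e => ⟨_, S.proj_incl e⟩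

theorem Setting.commute_iff (x h : Subgroup.centralizer ({t} : Set G)) :
    x * h = h * x ↔ S.proj x * S.proj h = S.proj h * S.proj x := by
  obtain ⟨⟨b, e⟩, rfl⟩ := S.equivC.surjective x
  obtain ⟨⟨b', e'⟩, rfl⟩ := S.equivC.surjective h
  rw [← S.equivC_mul, ← S.equivC_mul, S.equivC.injective.eq_iff, S.proj_equivC, S.proj_equivC,
    Prod.mk.injEq, Bool.xor_comm b b', eq_self_iff_true, true_and]

theorem Setting.centralChar_proj (f : E → ℂ) (h : Subgroup.centralizer ({t} : Set G)) :
    centralChar (fun x => f (S.proj x)) h = centralChar f (S.proj h) := by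
  unfold centralChar
  simp only [map_one]
  rw [show Subgroup.centralizer ({h} : Set ↥(Subgroup.centralizer ({t} : Set G))) =
      (Subgroup.centralizer ({S.proj h} : Set E)).comap S.proj by
    ext x
    rw [Subgroup.mem_comap, Subgroup.mem_centralizer_singleton_iff, Subgroup.mem_centralizer_singleton_iff]
    exact S.commute_iff x h,
    Subgroup.index_comap_of_surjective _ (f := S.proj) S.proj_surjective]

/-- An irreducible character of `E` on the centralizer. -/
noncomputable def Setting.infl (θ : IrrCharacter E) : IrrCharacter (Subgroup.centralizer ({t} : Set G)) :=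
  ⟨fun x => (θ : E → ℂ) (S.proj x), IsIrrCharacter.comp_surjective θ.2 S.proj S.proj_surjective⟩

theorem Setting.infl_apply (θ : IrrCharacter E) (x : Subgroup.centralizer ({t} : Set G)) :
    (S.infl θ : ↥(Subgroup.centralizer ({t} : Set G)) → ℂ) x = (θ : E → ℂ) (S.proj x) := rfl

theorem Setting.infl_mem_iff (M : Ideal AlgInt) (θ : IrrCharacter E) :
    S.infl θ ∈ principalBlock M (Subgroup.centralizer ({t} : Set G)) ↔ θ ∈ principalBlock M E := by
  show SameBlock M _ _ ↔ SameBlock M _ _
  have h1 : ∀ x, centralChar (fun _ : ↥(Subgroup.centralizer ({t} : Set G)) => (1 : ℂ)) x =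
      centralChar (fun _ : E => (1 : ℂ)) (S.proj x) := fun x => S.centralChar_proj (fun _ => 1) x
  constructor
  · intro h e
    obtain ⟨x, rfl⟩ := S.proj_surjective e
    have h' := h x
    rw [h1, show (S.infl θ : ↥(Subgroup.centralizer ({t} : Set G)) → ℂ) = fun y => (θ : E → ℂ) (S.proj y) from rfl,
      S.centralChar_proj] at h'
    exact h'
  · intro h x
    rw [h1, show (S.infl θ : ↥(Subgroup.centralizer ({t} : Set G)) → ℂ) = fun y => (θ : E → ℂ) (S.proj y) from rfl,
      S.centralChar_proj]
    exact h _

theorem Setting.sectVal_class (χ : IrrCharacter G) : IsClassFunction E (sectVal t E χ) := by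
  intro a h
  show (χ : G → ℂ) (t * ((h * a * h⁻¹ : E) : G)) = (χ : G → ℂ) (t * (a : G))
  rw [show t * ((h * a * h⁻¹ : E) : G) = (h : G) * (t * a) * (h : G)⁻¹ by
    push_cast
    rw [← mul_assoc, ← mul_assoc, (S.hyp.comm _ h.2).eq, mul_assoc (h : G) t]]
  exact isClassFunction_irr χ _ _

/-- The principal part at the centralizer is the principal part on `E`. -/
theorem Setting.blockPart_eq {M : Ideal AlgInt} (hM : IsPModular 2 M)
    [Fintype (Subgroup.centralizer ({t} : Set G))] (χ : IrrCharacter G) {e : E} (he : Odd (orderOf e)) :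
    blockPart (principalBlock M (Subgroup.centralizer ({t} : Set G)))
        (fun c : Subgroup.centralizer ({t} : Set G) => (χ : G → ℂ) (t * (c : G))) (Subgroup.inclusion S.E_le_C e) =
      blockPart (principalBlock M E) (sectVal t E χ) e := by
  classical
  set H := Subgroup.centralizer ({t} : Set G)
  have hb : IsPBlock M (principalBlock M H) := isPBlock_blockOf (principal H)
  have hreg : ¬ 2 ∣ orderOf (Subgroup.inclusion S.E_le_C e) := by
    rw [← Subgroup.orderOf_coe]
    exact S.not_dvd he
  rw [blockPart_congr_regular hM hb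
    (θ' := fun c => ∑ θ : IrrCharacter E, classInner (sectVal t E χ) (θ : E → ℂ) * (S.infl θ : H → ℂ) c)
    (fun c hc => ?_) hreg, blockPart_sum_smul, blockPart_eq_sum, Finset.sum_filter]
  · refine Finset.sum_congr rfl fun θ _ => ?_
    rw [blockPart_eq_sum, Finset.sum_congr rfl fun ψ _ => by
      rw [classInner_irrCharacter, ite_mul, one_mul, zero_mul], Finset.sum_ite_eq]
    simp only [Finset.mem_filter, Finset.mem_univ, true_and, mul_ite, mul_zero, S.infl_apply, S.proj_incl]
    exact if_congr (S.infl_mem_iff M θ) rfl rfl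
  · have hodd : Odd (orderOf (c : G)) := by
      rw [Subgroup.orderOf_coe, Nat.odd_iff, ← Nat.two_dvd_ne_zero]
      exact hc
    have hcE := S.odd_mem_E (S.mem_C.1 c.2) hodd
    have hp : S.proj c = ⟨(c : G), hcE⟩ := by
      have h := S.proj_incl ⟨(c : G), hcE⟩
      rwa [show Subgroup.inclusion S.E_le_C ⟨(c : G), hcE⟩ = c from rfl] at h
    simp only [S.infl_apply, hp]
    exact classFunction_expand_apply (S.sectVal_class χ) ⟨(c : G), hcE⟩

theorem Setting.sectBlock {M : Ideal AlgInt} (hM : IsPModular 2 M) (Tb : PSLTable E (signedCard F)) :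
    SectBlock t E Tb M := by
  classical
  haveI : Fact (Nat.Prime 2) := ⟨Nat.prime_two⟩
  set H := Subgroup.centralizer ({t} : Set G) with hHdef
  letI := Fintype.ofFinite H
  have hH : H = Subgroup.centralizer (Subgroup.zpowers t : Set G) := (centralizer_zpowers t).symm
  have hx : ∃ k : ℕ, orderOf t = 2 ^ k := ⟨1, by rw [S.hyp.ord, pow_one]⟩
  have hB : IsPBlock M (principalBlock M G) := isPBlock_blockOf (principal G)
  have hreg : ∀ {y : E}, Odd (orderOf y) → ¬ 2 ∣ orderOf (Subgroup.inclusion S.E_le_C y) := fun {y} hy => by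
    rw [← Subgroup.orderOf_coe]; exact S.not_dvd hy
  have hsv : ∀ (χ : IrrCharacter G) (f : E → ℂ), coord t E χ f = classInner (sectVal t E χ) f := fun _ _ => rfl
  refine ⟨fun χ hχ => ?_, fun χ hχ => ?_⟩
  · have key : ∀ y : E, Odd (orderOf y) →
        sectVal t E χ y = blockPart (principalBlock M E) (sectVal t E χ) y := fun y hy => by
      rw [← S.blockPart_eq hM χ hy]
      have h := apply_mul_eq_sum_blockPart hM hx hH hB hχ (hreg hy)
      rw [filter_induced_principal hM hx hH, Finset.sum_singleton] at h
      exact h
    have hzero : ∀ f : E → ℂ, IsSpecial f →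
        (∀ ψ : IrrCharacter E, ψ ∈ principalBlock M E → classInner f (ψ : E → ℂ) = 0) →
          coord t E χ f = 0 := by
      intro f hf hψ
      rw [S.coord_apply, Finset.sum_congr rfl (g := fun y => (blockPart (principalBlock M E) (sectVal t E χ) y) *
        conj (f y)) fun y _ => ?_]
      · rw [← classInner_def, show blockPart (principalBlock M E) (sectVal t E χ) =
          ∑ ψ ∈ Finset.univ.filter (· ∈ principalBlock M E),
            classInner (sectVal t E χ) (ψ : E → ℂ) • (ψ : E → ℂ) from funext fun y => by
          rw [blockPart_eq_sum, Finset.sum_apply]; rfl, classInner_sum_left]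
        refine Finset.sum_eq_zero fun ψ hψm => ?_
        rw [classInner_smul_left, ← classInner_conj_symm f, hψ ψ (Finset.mem_filter.1 hψm).2, map_zero, mul_zero]
      · by_cases hy : Odd (orderOf y)
        · rw [← key y hy]; rfl
        · rw [hf.2.2 y hy]; simp
    refine ⟨fun y hy => ?_, fun θ hθ => hzero _ (Tb.phi_spec θ hθ).1 fun ψ hψ => Tb.phi_block M hM θ hθ ψ hψ,
      fun j => hzero _ (Tb.psi_spec j).1 fun ψ hψ => Tb.psi_block M hM j ψ hψ⟩
    rw [key y hy]
    exact Tb.block M hM _ (S.sectVal_class χ) y hy
  · have hne : ¬ IsInducedBlock M H (principalBlock M H) (blockOf M (χ : G → ℂ)) := fun h => by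
      refine hχ ?_
      have e := IsInducedBlock.unique hM h ((isInducedBlock_principal_iff hM H ⟨_, h⟩).2 rfl)
      rw [← e]
      exact mem_blockOf_self hM χ
    have key : ∀ y : E, Odd (orderOf y) →
        -coord t E χ Tb.x + coord t E χ Tb.al * Tb.A y + coord t E χ Tb.be * Tb.B y = 0 := fun y hy => by
      simp only [hsv]
      rw [← Tb.block M hM _ (S.sectVal_class χ) y hy, ← S.blockPart_eq hM χ hy]
      exact blockPart_translate_eq_zero hM hx hH (isPBlock_blockOf χ) (mem_blockOf_self hM χ)
        (isPBlock_blockOf (principal H)) hne _ (hreg hy)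
    generalize coord t E χ Tb.x = a at key ⊢
    generalize coord t E χ Tb.al = b at key ⊢
    generalize coord t E χ Tb.be = c at key ⊢
    have pair : ∀ f : E → ℂ, IsSpecial f → -a * conj (classInner f (fun _ : E => 1)) +
        b * classInner Tb.A f + c * classInner Tb.B f = 0 := by
      intro f hf
      rw [classInner_conj_symm, ← classInner_smul_left, ← classInner_smul_left, ← classInner_smul_left,
        ← classInner_add_left, ← classInner_add_left, classInner_def, Finset.sum_eq_zero, mul_zero]
      intro y _
      by_cases hy : Odd (orderOf y)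
      · simp only [Pi.add_apply, Pi.smul_apply, smul_eq_mul, mul_one, key y hy, zero_mul]
      · rw [hf.2.2 y hy]; simp
    obtain ⟨d1, d2, d3, d4, d5, d6⟩ := Tb.dual
    have px := pair _ Tb.spec_x
    have pa := pair _ Tb.spec_al
    have pb := pair _ Tb.spec_be
    rw [Tb.inner_x_one, d1, d4, map_neg, map_one] at px
    rw [Tb.inner_al_one, d2, d5, map_zero] at pa
    rw [Tb.inner_be_one, d3, d6, map_zero] at pb
    exact ⟨by linear_combination px, by linear_combination pa, by linear_combination pb⟩

end Cfsg.Lib.Ree
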